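import Cfsg.Agent.H388.Wf.Asm
import Cfsg.Agent.H798.T5Untw

/-!
# The untwisted Chevalley groups of exceptional type in characteristic `p ≠ 2` (helper388, for S3826)

`row_chev`, `wrow_chev`, `frow_chev` : `H798.T5Untw.mrow_chev` without `5 ≤ p`.
-/

set_option autoImplicit false
set_option linter.unusedSectionVars false
set_option maxHeartbeats 400000

namespace Cfsg.Agent.H388.Wf.Chev

open Matrix CoxeterSystem Cfsg.Agent.ChevalleyStructure.CoxeterGeom Cfsg.Agent.Tits.Roots Cfsg.Agent.Tits.Core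
  Cfsg.Agent.Tits.RootComb Cfsg.Agent.Nodes.Comb Cfsg.Agent.Nodes.Reps Cfsg.Agent.Nodes.BNOf Cfsg.Agent.Nodes.BNOf.RGD
open Cfsg.Agent.Nodes.RGDLib Cfsg.Agent.FixBN Cfsg.Agent.FixBN.FieldRGD Cfsg.Agent.H460.Typed
open Cfsg.Agent.H185.TypedTw (FNode)
open Cfsg.Lie Cfsg.Agent.ChevalleyStructure Cfsg.Agent.ChevalleyStructure.Elts
  Cfsg.Agent.ChevalleyStructure.NPerm Cfsg.Agent.ChevalleyStructure.CoxeterGeomTypes Cfsg.Agent.Nodes.RGDChev
open Cfsg.Agent.KFacts.RgdAut Cfsg.Agent.KFacts.RgdDiag Cfsg.Agent.KFacts.RgdRigid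
  Cfsg.Agent.KFacts.RgdField Cfsg.Agent.KFacts.RgdTau Cfsg.Agent.KFacts.RgdChevCoord
open Cfsg.Agent.KFacts.RgdFilt Cfsg.Agent.KFacts.RgdBorelTits
open Cfsg.Agent.FixBN.ChevGood (isSolvable_T)
open Cfsg.Agent.H533.T5 Cfsg.Agent.H957.T5M
open Cfsg.Agent.H798.T5Geo Cfsg.Agent.H798.T5Pan Cfsg.Agent.H798.T5Tp Cfsg.Agent.H798.T5Asm
open Cfsg.Agent.H798.T5Untw

variable {D : ChevalleyDatum} {l : ℕ} {M : CoxeterMatrix (Fin l)}

/-- **Rows**: the pairs of inner elements of order `p` decide. -/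
theorem row_chev (hp : IsType D l M) (K : Type) [Field K] [Finite K] (p : ℕ) [Fact p.Prime] [CharP K p]
    [IsSimpleGroup ↥(D.group K)] (hc : ∃ a b : ↥(D.group K), a * b ≠ b * a) (hp2 : p ≠ 2) (hl : 1 ≤ l)
    (hσ : ∀ σ : Equiv.Perm (Fin l), (∀ i j, M (σ i) (σ j) = M i j) → σ ^ p = 1 → σ = 1)
    {Pr : MulAut ↥(D.group K) → MulAut ↥(D.group K) → Prop}
    (hPr : ∀ c d, WPair p (MulAut.conj : ↥(D.group K) →* MulAut ↥(D.group K)).range c d → Pr c d)
    (hin : ∀ x y : ↥(D.group K), x ^ p = 1 → y ^ p = 1 → x ≠ 1 → y ≠ 1 →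
      (∃ i, NT M.toCoxeterSystem hp.isCartan (XX D l K) x i ∧ NT M.toCoxeterSystem hp.isCartan (XX D l K) y i) ∨
        Pr (MulAut.conj x) (MulAut.conj y)) (c d : MulAut ↥(D.group K)) (hc' : orderOf c = p)
    (hd' : orderOf d = p) : Pr c d := by
  have hpp : p.Prime := Fact.out
  have hW : Finite M.Group := finite_W hp (M.toCoxeterSystem)
  have R := rgd (K := K) hp M.toCoxeterSystem p
  have hG1 : RGD.Sup (XX D l K) {x | IsRoot M.toCoxeterSystem hp.isCartan x} = ⊤ := G1_eq_top hp M.toCoxeterSystem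
  have hne : Nonempty (Fin l) := ⟨⟨0, hl⟩⟩
  have hconn := KFacts.RgdLieCharP.conn_of_simple R hG1 (KFacts.RgdLieCharP.center_eq_bot hc)
  have C := coords (K := K) hp M.toCoxeterSystem p
  have H := coroots (K := K) hp M.toCoxeterSystem p
  obtain ⟨E, hB, he, hF⟩ := exists_eng_of (Q := fun _ => Nat.card K) R (gen hp M.toCoxeterSystem p) (isSolvable_T K hp)
    (fun i => fnode_chev hp K p i) hl
  have hG := KFacts.RgdFilt.GG_eq_top (T := TT D K) hG1
  refine Asm.row_of R hB he hc hG hp2 hF hPr hin ?_ c d hc' hd'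
  intro c hc'
  have hcp : c ^ p = 1 := by rw [← hc', pow_orderOf_eq_one]
  rcases CpAut.RgdConj.inner_or_conj R hG1 C H hconn hσ hcp with h1 | ⟨τ, hτ, hτ1, h1⟩
  · exact Or.inl h1
  · right
    have hstd : ∀ r, IsRoot M.toCoxeterSystem hp.isCartan r → ∀ a,
        CpAut.RgdUntw.fld D τ (xc hp r a) = xc hp r (τ a) := by
      intro r hr a
      obtain ⟨s, hs, rfl⟩ := (isRoot_iff hp M.toCoxeterSystem r).1 hr
      exact CpAut.RgdUntw.fld_xc hp τ hs a
    have S := CpAut.RgdConj.tau_of_std R hG1 C H hconn hstd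
    have hφ : CpAut.RgdUntw.fld D τ ^ p = 1 := by rw [← CpAut.RgdUntw.fld_pow, hτ, CpAut.RgdUntw.fld_one]
    obtain ⟨e, he'⟩ := h1 _ hφ S
    rw [he']
    refine TP.conj_all ?_ e
    exact tp_of_ntau R hB he (F := fun _ => K) (χ := fun i => ch hp (sr i))
      (fun i => C.coord _ (isRoot_sr M.toCoxeterSystem hp.isCartan i)) hσ hφ (τ := fun _ => τ)
      ⟨S.diag, S.char⟩ (fun _ => hτ1)

/-- a `p`-element has a type -/
theorem exists_NT_chev (hp : IsType D l M) (K : Type) [Field K] [Finite K] (p : ℕ) [Fact p.Prime] [CharP K p]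
    [IsSimpleGroup ↥(D.group K)] (hl : 1 ≤ l) {x : ↥(D.group K)} (hx : x ^ p = 1) (hx1 : x ≠ 1) :
    ∃ i, NT M.toCoxeterSystem hp.isCartan (XX D l K) x i := by
  have hW : Finite M.Group := finite_W hp (M.toCoxeterSystem)
  have R := rgd (K := K) hp M.toCoxeterSystem p
  have hG1 : RGD.Sup (XX D l K) {x | IsRoot M.toCoxeterSystem hp.isCartan x} = ⊤ := G1_eq_top hp M.toCoxeterSystem
  have hne : Nonempty (Fin l) := ⟨⟨0, hl⟩⟩
  have hG := KFacts.RgdFilt.GG_eq_top (T := TT D K) hG1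
  refine exists_NT R hG (c := x) ?_ hx1
  rw [IsPGroup.iff_card]
  refine ⟨1, ?_⟩
  rw [Nat.card_zpowers, pow_one, orderOf_eq_prime hx hx1]

/-- **The weak row**, one type contained in all `T(x)`. -/
theorem wrow_chev (hp : IsType D l M) (K : Type) [Field K] [Finite K] (p : ℕ) [Fact p.Prime] [CharP K p]
    [IsSimpleGroup ↥(D.group K)] (hc : ∃ a b : ↥(D.group K), a * b ≠ b * a) (hp2 : p ≠ 2) (hl : 1 ≤ l)
    (hσ : ∀ σ : Equiv.Perm (Fin l), (∀ i j, M (σ i) (σ j) = M i j) → σ ^ p = 1 → σ = 1)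
    (hT : ∃ i0, ∀ (x : ↥(D.group K)) (i : Fin l), NT M.toCoxeterSystem hp.isCartan (XX D l K) x i →
      NT M.toCoxeterSystem hp.isCartan (XX D l K) x i0) : WRow p ↥(D.group K) := by
  obtain ⟨i0, hi0⟩ := hT
  refine row_chev hp K p hc hp2 hl hσ (fun _ _ h => h) fun x y hx hy hx1 hy1 => ?_
  left
  obtain ⟨i, hi⟩ := exists_NT_chev hp K p hl hx hx1
  obtain ⟨j, hj⟩ := exists_NT_chev hp K p hl hy hy1
  exact ⟨i0, hi0 x i hi, hi0 y j hj⟩

/-- **The row with the wreath product.** -/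
theorem frow_chev (hp : IsType D l M) (K : Type) [Field K] [Finite K] (p : ℕ) [Fact p.Prime] [CharP K p]
    [IsSimpleGroup ↥(D.group K)] (hc : ∃ a b : ↥(D.group K), a * b ≠ b * a) (hp2 : p ≠ 2) (hl : 1 ≤ l)
    (hσ : ∀ σ : Equiv.Perm (Fin l), (∀ i j, M (σ i) (σ j) = M i j) → σ ^ p = 1 → σ = 1)
    (hin : ∀ x y : ↥(D.group K), x ^ p = 1 → y ^ p = 1 → x ≠ 1 → y ≠ 1 →
      (∃ i, NT M.toCoxeterSystem hp.isCartan (XX D l K) x i ∧ NT M.toCoxeterSystem hp.isCartan (XX D l K) y i) ∨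
        Asm.FPair p (⊤ : Subgroup ↥(D.group K)) x y) : Asm.FRow p ↥(D.group K) := by
  refine row_chev hp K p hc hp2 hl hσ (fun _ _ h => Asm.FPair.of_wpair h) fun x y hx hy hx1 hy1 => ?_
  rcases hin x y hx hy hx1 hy1 with h1 | h1
  · exact Or.inl h1
  · right
    have := h1.of_injective (MulAut.conj : ↥(D.group K) →* MulAut ↥(D.group K)) (Asm.conj_inj hc)
    rwa [← MonoidHom.range_eq_map] at this

end Cfsg.Agent.H388.Wf.Chev
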