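import Mathlib

/-!
# The relations of `U / X_{a+3b} X_{2a+3b}` in `G₂(F)` (helper388, for S3826)

`Rel b6 b7 b8 b9` : the commutator relations modulo `X_{a+3b} X_{2a+3b}`; `Rel.not_mem` : for
`x = b6 s b8 v b9 w`, `y = b7 t b8 v' b9 w'`, `s, t ≠ 0`: `x ∉ ⟨y x y⁻¹, y⁻¹ x y⟩`.
-/

set_option autoImplicit false

namespace Cfsg.Agent.H388.Wf.GAlg

variable {F : Type*} [Field F] {Γ : Type*} [Group Γ]

/-- The relations. -/
structure Rel (b6 b7 b8 b9 : F → Γ) : Prop where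
  a6 : ∀ s t, b6 (s + t) = b6 s * b6 t
  a7 : ∀ s t, b7 (s + t) = b7 s * b7 t
  a8 : ∀ s t, b8 (s + t) = b8 s * b8 t
  a9 : ∀ s t, b9 (s + t) = b9 s * b9 t
  c68 : ∀ s t, b6 s * b8 t = b8 t * b6 s
  c69 : ∀ s t, b6 s * b9 t = b9 t * b6 s
  c89 : ∀ s t, b8 s * b9 t = b9 t * b8 s
  c79 : ∀ s t, b7 s * b9 t = b9 t * b7 s
  r76 : ∀ u t, b7 u * b6 t = b6 t * b7 u * b8 (-(t * u)) * b9 (-(t * u ^ 2))
  r78 : ∀ u t, b7 u * b8 t = b8 t * b7 u * b9 (-(2 * t * u))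
  inj : ∀ s v w, b6 s * b8 v * b9 w = 1 → s = 0 ∧ v = 0 ∧ w = 0

namespace Rel

variable {b6 b7 b8 b9 : F → Γ} (R : Rel b6 b7 b8 b9)

include R

theorem z7 : b7 0 = 1 := by
  have := R.a7 0 0
  rw [add_zero] at this
  exact left_eq_mul.1 this

/-- the abelian normal subgroup -/
def phi (b6 b8 b9 : F → Γ) (p : F × F × F) : Γ := b6 p.1 * b8 p.2.1 * b9 p.2.2

theorem phi_add (p q : F × F × F) : phi b6 b8 b9 (p + q) = phi b6 b8 b9 p * phi b6 b8 b9 q := by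
  unfold phi
  rw [Prod.fst_add, Prod.snd_add, Prod.fst_add, Prod.snd_add, R.a6, R.a8, R.a9]
  calc b6 p.1 * b6 q.1 * (b8 p.2.1 * b8 q.2.1) * (b9 p.2.2 * b9 q.2.2)
      = b6 p.1 * (b6 q.1 * b8 p.2.1) * (b8 q.2.1 * b9 p.2.2) * b9 q.2.2 := by group
    _ = b6 p.1 * (b8 p.2.1 * b6 q.1) * (b9 p.2.2 * b8 q.2.1) * b9 q.2.2 := by rw [R.c68, R.c89]
    _ = b6 p.1 * b8 p.2.1 * (b6 q.1 * b9 p.2.2) * b8 q.2.1 * b9 q.2.2 := by group
    _ = b6 p.1 * b8 p.2.1 * (b9 p.2.2 * b6 q.1) * b8 q.2.1 * b9 q.2.2 := by rw [R.c69]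
    _ = _ := by group

/-- the homomorphism -/
def hom : Multiplicative (F × F × F) →* Γ :=
  MonoidHom.mk' (fun p => phi b6 b8 b9 p.toAdd) fun p q => R.phi_add p.toAdd q.toAdd

theorem hom_apply (p : Multiplicative (F × F × F)) : R.hom p = phi b6 b8 b9 p.toAdd := rfl

theorem hom_inj : Function.Injective R.hom := by
  rw [injective_iff_map_eq_one]
  intro p hp
  obtain ⟨h1, h2, h3⟩ := R.inj _ _ _ hp
  apply Multiplicative.toAdd.injective
  exact Prod.ext h1 (Prod.ext h2 h3)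

/-- the action of `b7 u` -/
def tau (u : F) (p : F × F × F) : F × F × F := (p.1, p.2.1 - p.1 * u, p.2.2 + p.1 * u ^ 2 - 2 * p.2.1 * u)

theorem conj7 (u : F) (p : F × F × F) :
    b7 u * phi b6 b8 b9 p * (b7 u)⁻¹ = phi b6 b8 b9 (tau u p) := by
  obtain ⟨s, v, w⟩ := p
  rw [mul_inv_eq_iff_eq_mul]
  show b7 u * (b6 s * b8 v * b9 w) = b6 s * b8 (v - s * u) * b9 (w + s * u ^ 2 - 2 * v * u) * b7 u
  have e8 : ∀ t, b7 u * b8 t = b8 t * b9 (-(2 * t * u)) * b7 u := by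
    intro t
    rw [R.r78, mul_assoc (b8 t) (b7 u), R.c79, ← mul_assoc]
  have e6 : b7 u * b6 s = b6 s * b8 (-(s * u)) * b9 (s * u ^ 2) * b7 u := by
    rw [R.r76]
    calc b6 s * b7 u * b8 (-(s * u)) * b9 (-(s * u ^ 2))
        = b6 s * (b7 u * b8 (-(s * u))) * b9 (-(s * u ^ 2)) := by group
      _ = b6 s * (b8 (-(s * u)) * b9 (-(2 * (-(s * u)) * u)) * b7 u) * b9 (-(s * u ^ 2)) := by rw [e8]
      _ = b6 s * b8 (-(s * u)) * b9 (-(2 * (-(s * u)) * u)) * (b7 u * b9 (-(s * u ^ 2))) := by group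
      _ = b6 s * b8 (-(s * u)) * (b9 (-(2 * (-(s * u)) * u)) * b9 (-(s * u ^ 2))) * b7 u := by
        rw [R.c79]; group
      _ = b6 s * b8 (-(s * u)) * b9 (s * u ^ 2) * b7 u := by
        rw [← R.a9]; congr 3; ring
  calc b7 u * (b6 s * b8 v * b9 w) = (b7 u * b6 s) * b8 v * b9 w := by group
    _ = b6 s * b8 (-(s * u)) * b9 (s * u ^ 2) * (b7 u * b8 v) * b9 w := by rw [e6]; group
    _ = b6 s * b8 (-(s * u)) * (b9 (s * u ^ 2) * b8 v) * b9 (-(2 * v * u)) * (b7 u * b9 w) := by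
      rw [e8]; group
    _ = b6 s * (b8 (-(s * u)) * b8 v) * (b9 (s * u ^ 2) * b9 (-(2 * v * u)) * b9 w) * b7 u := by
      rw [R.c79, ← R.c89]; group
    _ = _ := by
      rw [← R.a8, ← R.a9, ← R.a9]
      congr 3
      · congr 1; ring
      · congr 1; ring

theorem inv7 (u : F) : (b7 u)⁻¹ = b7 (-u) := by
  rw [inv_eq_iff_mul_eq_one, ← R.a7, add_neg_cancel, R.z7]

theorem phi_comm (p q : F × F × F) :
    phi b6 b8 b9 p * phi b6 b8 b9 q = phi b6 b8 b9 q * phi b6 b8 b9 p := by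
  rw [← R.phi_add, ← R.phi_add, add_comm]

/-- conjugation by `y = b7 t * φ(q)` -/
theorem conjy (t : F) (q p : F × F × F) :
    (b7 t * phi b6 b8 b9 q) * phi b6 b8 b9 p * (b7 t * phi b6 b8 b9 q)⁻¹ = phi b6 b8 b9 (tau t p) := by
  calc (b7 t * phi b6 b8 b9 q) * phi b6 b8 b9 p * (b7 t * phi b6 b8 b9 q)⁻¹
      = b7 t * (phi b6 b8 b9 q * phi b6 b8 b9 p * (phi b6 b8 b9 q)⁻¹) * (b7 t)⁻¹ := by group
    _ = b7 t * phi b6 b8 b9 p * (b7 t)⁻¹ := by rw [R.phi_comm q p, mul_inv_cancel_right]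
    _ = _ := R.conj7 t p

theorem conjy' (t : F) (q p : F × F × F) :
    (b7 t * phi b6 b8 b9 q)⁻¹ * phi b6 b8 b9 p * (b7 t * phi b6 b8 b9 q) = phi b6 b8 b9 (tau (-t) p) := by
  have h := R.conjy t q (tau (-t) p)
  have e : tau t (tau (-t) p) = p := by
    obtain ⟨s, v, w⟩ := p
    unfold tau
    refine Prod.ext rfl (Prod.ext ?_ ?_)
    · show v - s * -t - s * t = v
      ring
    · show w + s * (-t) ^ 2 - 2 * v * -t + s * t ^ 2 - 2 * (v - s * -t) * t = w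
      ring
  rw [e] at h
  rw [← h]; group

omit [Group Γ] R in
/-- **The linear algebra.** -/
theorem lin_core {s v w t m n : F} (hs : s ≠ 0) (ht : t ≠ 0) (e1 : s = m * s + n * s)
    (e2 : v = m * (v - s * t) + n * (v + s * t))
    (e3 : w = m * (w + s * t ^ 2 - 2 * v * t) + n * (w + s * t ^ 2 + 2 * v * t)) : False := by
  have h1 : m + n = 1 := by
    have : (m + n - 1) * s = 0 := by linear_combination -e1
    rcases mul_eq_zero.1 this with h | h
    · exact sub_eq_zero.1 h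
    · exact absurd h hs
  have h2 : m - n = 0 := by
    have : (m - n) * (s * t) = 0 := by linear_combination e2 + v * h1
    rcases mul_eq_zero.1 this with h | h
    · exact h
    · exact absurd h (mul_ne_zero hs ht)
  have h3 : s * t ^ 2 = 0 := by
    linear_combination (-1 : F) * e3 - (w + s * t ^ 2) * h1 + 2 * v * t * h2
  exact mul_ne_zero hs (pow_ne_zero 2 ht) h3

/-- **The Jordan block.** -/
theorem not_mem {s t : F} (hs : s ≠ 0) (ht : t ≠ 0) (p q : F × F × F) (hp : p.1 = s) {x y : Γ}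
    (hx : x = phi b6 b8 b9 p) (hy : y = b7 t * phi b6 b8 b9 q) :
    x ∉ Subgroup.closure ({y * x * y⁻¹, y⁻¹ * x * y} : Set Γ) := by
  intro h
  have h1 : y * x * y⁻¹ = R.hom (Multiplicative.ofAdd (tau t p)) := by
    rw [hx, hy, R.conjy, R.hom_apply]; rfl
  have h2 : y⁻¹ * x * y = R.hom (Multiplicative.ofAdd (tau (-t) p)) := by
    rw [hx, hy, R.conjy', R.hom_apply]; rfl
  rw [h1, h2] at h
  have h3 : Subgroup.closure ({R.hom (Multiplicative.ofAdd (tau t p)), R.hom (Multiplicative.ofAdd (tau (-t) p))} :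
      Set Γ) = (Subgroup.closure {Multiplicative.ofAdd (tau t p), Multiplicative.ofAdd (tau (-t) p)}).map R.hom := by
    rw [MonoidHom.map_closure, Set.image_pair]
  rw [h3] at h
  obtain ⟨z, hz, hzx⟩ := h
  have h4 : z = Multiplicative.ofAdd p := by
    apply R.hom_inj
    rw [hzx, hx, R.hom_apply]; rfl
  rw [h4] at hz
  obtain ⟨m, n, hmn⟩ := Subgroup.mem_closure_pair.1 hz
  have h5 : m • tau t p + n • tau (-t) p = p := hmn
  obtain ⟨s', v, w⟩ := p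
  have hp' : s' = s := hp
  subst hp'
  have g1 := congrArg Prod.fst h5
  have g2 := congrArg (fun z => z.2.1) h5
  have g3 := congrArg (fun z => z.2.2) h5
  have k1 : m • s' + n • s' = s' := g1
  have k2 : m • (v - s' * t) + n • (v - s' * -t) = v := g2
  have k3 : m • (w + s' * t ^ 2 - 2 * v * t) + n • (w + s' * (-t) ^ 2 - 2 * v * -t) = w := g3
  rw [zsmul_eq_mul, zsmul_eq_mul] at k1 k2 k3
  exact lin_core (s := s') (v := v) (w := w) (t := t) (m := (m : F)) (n := (n : F)) hs ht k1.symm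
    (by linear_combination -k2) (by linear_combination -k3)

end Rel

end Cfsg.Agent.H388.Wf.GAlg
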