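import Cfsg.Agent.H388.Wf.Asm
import Cfsg.Agent.H388.Wf.GAlg
import Cfsg.Agent.H798.T5GFour

/-!
# The special pairs of `G₂(3^a)` (helper388, for S3826)

`key_false` : `x ∈ V_j ∖ V_i`, `y ∈ V_i ∖ V_j` (`α_i` long, `α_j` short), `y³ = 1`, `⟨x, y⟩` a 3-group in which
`C₃ ≀ C₃` is not involved: contradiction.
-/

set_option autoImplicit false
set_option linter.unusedSectionVars false
set_option linter.unusedVariables false
set_option maxHeartbeats 400000

namespace Cfsg.Agent.H388.Wf.GTwo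

open CoxeterSystem Cfsg.Agent.ChevalleyStructure.CoxeterGeom Cfsg.Agent.Tits.Roots Cfsg.Agent.Tits.Core
  Cfsg.Agent.Tits.RootComb Cfsg.Agent.Tits.Exchange Cfsg.Agent.Nodes.Reps Cfsg.Agent.Nodes.BNOf
  Cfsg.Agent.Nodes.StabComb Cfsg.Agent.Nodes.Bruhat Cfsg.Agent.Nodes.OppDec Cfsg.Agent.Nodes.LeviDec
  Cfsg.Agent.Nodes.Coroot Cfsg.Agent.KFacts.RgdSL Cfsg.Agent.KFacts.RgdBorelTits Cfsg.Agent.KFacts.RgdFilt
  Cfsg.Agent.H533.T5 Cfsg.Agent.H798.T5Geo Cfsg.Agent.H798.T5Root Cfsg.Agent.H798.T5Bond Cfsg.Agent.H798.T5BTwo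
  Cfsg.Agent.H798.T5GTwo Cfsg.Agent.H798.T5GThree
open Cfsg.Agent.H533.Wf Cfsg.Agent.H388.Wf.GAlg
open scoped commutatorElement

variable {I W Y : Type*} [Fintype I] [DecidableEq I] [Group W] [Group Y] {M : CoxeterMatrix I}
  {cs : CoxeterSystem M W} {A : I → I → ℤ} {h : IsCartan M A} {p : ℕ} {T : Subgroup Y} {n : I → Y}
  {X : (I → ℤ) → Subgroup Y} {i j : I}

attribute [local irreducible] H798.T5Root.rt

/-- `X_{a+3b} X_{2a+3b}` -/
abbrev vv (X : (I → ℤ) → Subgroup Y) (i j : I) : Subgroup Y :=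
  X (H798.T5Root.rt i j 1 3) ⊔ X (H798.T5Root.rt i j 2 3)

/-- its normaliser -/
abbrev nv (X : (I → ℤ) → Subgroup Y) (i j : I) : Subgroup Y := Subgroup.normalizer (vv X i j : Set Y)

/-- `X_{a+b} X_{a+2b} X_{a+3b} X_{2a+3b}` -/
abbrev aa (X : (I → ℤ) → Subgroup Y) (i j : I) : Subgroup Y :=
  X (H798.T5Root.rt i j 1 1) ⊔
    (X (H798.T5Root.rt i j 1 2) ⊔ X (H798.T5Root.rt i j 1 3) ⊔ X (H798.T5Root.rt i j 2 3))

local notation "V0" => X (H798.T5Root.rt i j 1 0)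
local notation "V1" => X (H798.T5Root.rt i j 1 1)
local notation "V2" => X (H798.T5Root.rt i j 1 2)
local notation "V3" => X (H798.T5Root.rt i j 1 3)
local notation "ZZ" => X (H798.T5Root.rt i j 2 3)
local notation "GG1" => X (H798.T5Root.rt i j 0 1)
local notation "NN2" => (X (H798.T5Root.rt i j 1 2) ⊔ X (H798.T5Root.rt i j 1 3) ⊔ X (H798.T5Root.rt i j 2 3))
local notation "VV" => vv X i j
local notation "NV" => nv X i j
local notation "AA" => aa X i j

theorem mem_norm_of {V L : Subgroup Y} (h1 : ∀ g ∈ L, ∀ k ∈ V, g * k * g⁻¹ ∈ V) {g : Y} (hg : g ∈ L) :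
    g ∈ Subgroup.normalizer (V : Set Y) := by
  rw [Subgroup.mem_normalizer_iff]
  intro k
  refine ⟨fun hk => h1 g hg k hk, fun hk => ?_⟩
  have h2 := h1 g⁻¹ (inv_mem hg) _ hk
  have e : g⁻¹ * (g * k * g⁻¹) * g⁻¹⁻¹ = k := by group
  rwa [e] at h2

section Abs

variable (D : G2 cs h X i j)

include D

theorem n0 {g : Y} (hg : g ∈ V0) : g ∈ NV :=
  mem_norm_of (fun g hg => conj_sup
    (fun x hx => conj_of_comm (Subgroup.mem_sup_right (D.k10_13 hg hx)) (Subgroup.mem_sup_left hx))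
    (fun x hx => conj_of_commute (D.c10_23 hg hx) (Subgroup.mem_sup_right hx))) hg

theorem n1 {g : Y} (hg : g ∈ V1) : g ∈ NV :=
  mem_norm_of (fun g hg => conj_sup
    (fun x hx => conj_of_commute (D.c11_13 hg hx) (Subgroup.mem_sup_left hx))
    (fun x hx => conj_of_commute (D.c11_23 hg hx) (Subgroup.mem_sup_right hx))) hg

theorem n2 {g : Y} (hg : g ∈ V2) : g ∈ NV :=
  mem_norm_of (fun g hg => conj_sup
    (fun x hx => conj_of_commute (D.c12_13 hg hx) (Subgroup.mem_sup_left hx))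
    (fun x hx => conj_of_commute (D.c12_23 hg hx) (Subgroup.mem_sup_right hx))) hg

theorem ng {g : Y} (hg : g ∈ GG1) : g ∈ NV :=
  mem_norm_of (fun g hg => conj_sup
    (fun x hx => conj_of_commute (D.c01_13 hg hx) (Subgroup.mem_sup_left hx))
    (fun x hx => conj_of_commute (D.c01_23 hg hx) (Subgroup.mem_sup_right hx))) hg

theorem AA_le_norm : AA ≤ NV :=
  sup_le (fun _ hx => n1 D hx) (sup_le (sup_le (fun _ hx => n2 D hx)
    (le_trans le_sup_left Subgroup.le_normalizer)) (le_trans le_sup_right Subgroup.le_normalizer))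

variable (hall : ∀ k, k = i ∨ k = j)

include hall

theorem VJj_le : VJ cs h X {j} ≤ V0 ⊔ AA := by
  refine RGD.Sup_le fun x hx => ?_
  obtain ⟨hx1, hx0, k, hk, hkx⟩ := hx
  have hki : k = i := by
    rcases hall k with h1 | h1
    · exact h1
    · exact absurd h1 hk
  rw [hki] at hkx
  have hx3 : x = H798.T5Root.rt i j (x i) (x j) := eq_rt D.ne fun k hki hkj => by
    rcases hall k with h7 | h7
    · exact absurd h7 hki
    · exact absurd h7 hkj
  rw [hx3] at hx1 hx0 ⊢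
  generalize x i = a at *
  generalize x j = g at *
  rw [rt_nonneg D.ne] at hx0
  rcases D.lst hx1 with h7 | h7 | h7 | h7 | h7 | h7 | h7 | h7 | h7 | h7 | h7 | h7
  · rw [h7.1, h7.2]; exact le_sup_left
  · exfalso; omega
  · exfalso; omega
  · exfalso; omega
  · rw [h7.1, h7.2]; exact le_trans le_sup_left le_sup_right
  · exfalso; omega
  · rw [h7.1, h7.2]
    exact le_trans (le_trans (le_trans le_sup_left le_sup_left) le_sup_right) le_sup_right
  · exfalso; omega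
  · rw [h7.1, h7.2]
    exact le_trans (le_trans (le_trans le_sup_right le_sup_left) le_sup_right) le_sup_right
  · exfalso; omega
  · rw [h7.1, h7.2]
    exact le_trans (le_trans le_sup_right le_sup_right) le_sup_right
  · exfalso; omega

theorem VJi_le : VJ cs h X {i} ≤ GG1 ⊔ AA := by
  refine RGD.Sup_le fun x hx => ?_
  obtain ⟨hx1, hx0, k, hk, hkx⟩ := hx
  have hki : k = j := by
    rcases hall k with h1 | h1
    · exact absurd h1 hk
    · exact h1
  rw [hki] at hkx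
  have hx3 : x = H798.T5Root.rt i j (x i) (x j) := eq_rt D.ne fun k hki hkj => by
    rcases hall k with h7 | h7
    · exact absurd h7 hki
    · exact absurd h7 hkj
  rw [hx3] at hx1 hx0 ⊢
  generalize x i = a at *
  generalize x j = g at *
  rw [rt_nonneg D.ne] at hx0
  rcases D.lst hx1 with h7 | h7 | h7 | h7 | h7 | h7 | h7 | h7 | h7 | h7 | h7 | h7
  · exfalso; omega
  · exfalso; omega
  · rw [h7.1, h7.2]; exact le_sup_left
  · exfalso; omega
  · rw [h7.1, h7.2]; exact le_trans le_sup_left le_sup_right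
  · exfalso; omega
  · rw [h7.1, h7.2]
    exact le_trans (le_trans (le_trans le_sup_left le_sup_left) le_sup_right) le_sup_right
  · exfalso; omega
  · rw [h7.1, h7.2]
    exact le_trans (le_trans (le_trans le_sup_right le_sup_left) le_sup_right) le_sup_right
  · exfalso; omega
  · rw [h7.1, h7.2]
    exact le_trans (le_trans le_sup_right le_sup_right) le_sup_right
  · exfalso; omega

omit hall

theorem AA_le (k : I) (hk : k = i ∨ k = j) : AA ≤ VJ cs h X {k} := by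
  have hij := D.ne
  have key : ∀ a g : ℤ, IsRoot cs h (H798.T5Root.rt i j a g) → 0 < a → 0 < g →
      X (H798.T5Root.rt i j a g) ≤ VJ cs h X {k} := by
    intro a g hr ha hg
    refine RGD.le_Sup (S := NotJ cs h {k}) ⟨hr, (rt_nonneg hij).2 ⟨ha.le, hg.le⟩, ?_⟩
    rcases hk with rfl | rfl
    · exact ⟨j, fun h1 => hij h1.symm, by rw [rt_right hij]; exact hg⟩
    · exact ⟨i, fun h1 => hij h1, by rw [rt_left hij]; exact ha⟩
  exact sup_le (key 1 1 D.r11 (by norm_num) (by norm_num))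
    (sup_le (sup_le (key 1 2 D.r12 (by norm_num) (by norm_num)) (key 1 3 D.r13 (by norm_num) (by norm_num)))
      (key 2 3 D.r23 (by norm_num) (by norm_num)))

end Abs

section Sep

variable [Finite W] (R : RGD cs h p T n X) (D : G2 cs h X i j)

include R D

theorem V_A {u : Y} (h1 : u ∈ V0) (h2 : u ∈ AA) : u = 1 := by
  refine sep R D.ne 0 1 1 0 (K := AA) (L := V0) ?_ ?_ h2 h1
  · refine ⟨{(1, 1), (1, 2), (1, 3), (2, 3)}, ?_, ?_⟩
    · rintro x (rfl | rfl | rfl | rfl)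
      · exact ⟨D.r11, by norm_num⟩
      · exact ⟨D.r12, by norm_num⟩
      · exact ⟨D.r13, by norm_num⟩
      · exact ⟨D.r23, by norm_num⟩
    · have hle := le_iSup (fun x : ({(1, 1), (1, 2), (1, 3), (2, 3)} : Set (ℤ × ℤ)) => X (H798.T5Root.rt i j x.1.1 x.1.2))
      exact sup_le (hle ⟨(1, 1), by simp⟩) (sup_le (sup_le (hle ⟨(1, 2), by simp⟩) (hle ⟨(1, 3), by simp⟩))
        (hle ⟨(2, 3), by simp⟩))
  · refine ⟨{(1, 0)}, ?_, ?_⟩
    · rintro x rfl
      exact ⟨D.r10, by norm_num, by norm_num⟩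
    · exact le_iSup (fun x : ({(1, 0)} : Set (ℤ × ℤ)) => X (H798.T5Root.rt i j x.1.1 x.1.2)) ⟨(1, 0), by simp⟩

theorem V2_VV {u : Y} (h1 : u ∈ V2) (h2 : u ∈ VV) : u = 1 := by
  obtain ⟨a, ha, b, hb, e⟩ := split_comm (fun x hx y hy => D.c13_23 hx hy) h2
  have ha1 : a = 1 := by
    refine V_K3 R D ha ?_
    have : a = u * b⁻¹ := by rw [e]; group
    rw [this]
    exact mul_mem (Subgroup.mem_sup_left (Subgroup.mem_sup_right h1)) (inv_mem (Subgroup.mem_sup_right hb))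
  refine V_2 R D h1 ?_
  rw [e, ha1, one_mul]
  exact Subgroup.mem_sup_right hb

theorem inj3 {a b c : Y} (ha : a ∈ V0) (hb : b ∈ V1) (hc : c ∈ V2) (habc : a * b * c ∈ VV) :
    a = 1 ∧ b = 1 ∧ c = 1 := by
  have hVN : VV ≤ NN2 := sup_le (le_trans le_sup_right le_sup_left) le_sup_right
  have hcN : c ∈ NN2 := Subgroup.mem_sup_left (Subgroup.mem_sup_left hc)
  have ha1 : a = 1 := by
    refine V_A R D ha ?_
    have : a = a * b * c * c⁻¹ * b⁻¹ := by group
    rw [this]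
    exact mul_mem (mul_mem (Subgroup.mem_sup_right (hVN habc)) (Subgroup.mem_sup_right (inv_mem hcN)))
      (Subgroup.mem_sup_left (inv_mem hb))
  rw [ha1, one_mul] at habc
  have hb1 : b = 1 := by
    refine V_N2 R D hb ?_
    have : b = b * c * c⁻¹ := by group
    rw [this]
    exact mul_mem (hVN habc) (inv_mem hcN)
  rw [hb1, one_mul] at habc
  exact ⟨ha1, hb1, V2_VV R D hc habc⟩

end Sep

variable (X i j) in
/-- The parametrisation of the root groups and the relations modulo `X_{a+3b} X_{2a+3b}`. -/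
structure Par {F : Type*} [Field F] (x6 x7 x8 x9 : F → Y) : Prop where
  m6 : ∀ g, g ∈ V0 ↔ ∃ t, g = x6 t
  m7 : ∀ g, g ∈ GG1 ↔ ∃ t, g = x7 t
  m8 : ∀ g, g ∈ V1 ↔ ∃ t, g = x8 t
  m9 : ∀ g, g ∈ V2 ↔ ∃ t, g = x9 t
  a6 : ∀ s t, x6 (s + t) = x6 s * x6 t
  a7 : ∀ s t, x7 (s + t) = x7 s * x7 t
  a8 : ∀ s t, x8 (s + t) = x8 s * x8 t
  a9 : ∀ s t, x9 (s + t) = x9 s * x9 t
  i6 : ∀ t, x6 t = 1 → t = 0
  i8 : ∀ t, x8 t = 1 → t = 0
  i9 : ∀ t, x9 t = 1 → t = 0
  r76 : ∀ u t, ∃ v ∈ VV, x7 u * x6 t = x6 t * x7 u * x8 (-(t * u)) * x9 (-(t * u ^ 2)) * v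
  r78 : ∀ u t, ∃ v ∈ VV, x7 u * x8 t = x8 t * x7 u * x9 (-(2 * t * u)) * v

section Main

variable {F : Type*} [Field F] {x6 x7 x8 x9 : F → Y} (P : Par X i j x6 x7 x8 x9)
  [Finite W] (R : RGD cs h p T n X) (D : G2 cs h X i j)

/-- the quotient -/
abbrev Q (X : (I → ℤ) → Subgroup Y) (i j : I) : Type _ :=
  ↥(nv X i j) ⧸ (vv X i j).subgroupOf (nv X i j)

/-- the images -/
def im (X : (I → ℤ) → Subgroup Y) (i j : I) (g : ↥(nv X i j)) : Q X i j :=
  QuotientGroup.mk' ((vv X i j).subgroupOf (nv X i j)) g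

theorem im_eq {g g' : ↥(NV)} {v : Y} (hv : v ∈ VV) (e : (g : Y) = g' * v) :
    im X i j g = im X i j g' := by
  unfold im
  rw [QuotientGroup.mk'_apply, QuotientGroup.mk'_apply]
  symm
  rw [QuotientGroup.eq, Subgroup.mem_subgroupOf]
  have : ((g'⁻¹ * g : ↥(NV)) : Y) = v := by
    rw [Subgroup.coe_mul, Subgroup.coe_inv, e, inv_mul_cancel_left]
  rw [this]
  exact hv

theorem im_mul (g g' : ↥(NV)) : im X i j (g * g') = im X i j g * im X i j g' :=
  map_mul _ _ _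

theorem im_inv (g : ↥(NV)) : im X i j g⁻¹ = (im X i j g)⁻¹ := map_inv _ _

theorem im_eq_one {g : ↥(NV)} : im X i j g = 1 ↔ (g : Y) ∈ VV := by
  unfold im
  rw [QuotientGroup.mk'_apply, QuotientGroup.eq_one_iff, Subgroup.mem_subgroupOf]

/-- images of one-parameter groups -/
def bb (x : F → Y) (hx : ∀ t, x t ∈ nv X i j) : F → Q X i j := fun t => im X i j ⟨x t, hx t⟩

include P D

theorem x6n (t : F) : x6 t ∈ NV := n0 D ((P.m6 _).2 ⟨t, rfl⟩)
theorem x7n (t : F) : x7 t ∈ NV := ng D ((P.m7 _).2 ⟨t, rfl⟩)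
theorem x8n (t : F) : x8 t ∈ NV := n1 D ((P.m8 _).2 ⟨t, rfl⟩)
theorem x9n (t : F) : x9 t ∈ NV := n2 D ((P.m9 _).2 ⟨t, rfl⟩)

include R

local notation "B6" => bb x6 (x6n P D)
local notation "B7" => bb x7 (x7n P D)
local notation "B8" => bb x8 (x8n P D)
local notation "B9" => bb x9 (x9n P D)

theorem rel : Rel B6 B7 B8 B9 where
  a6 s t := by
    unfold bb
    rw [← im_mul]
    exact im_eq (one_mem _) (by rw [mul_one]; exact P.a6 s t)
  a7 s t := by
    unfold bb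
    rw [← im_mul]
    exact im_eq (one_mem _) (by rw [mul_one]; exact P.a7 s t)
  a8 s t := by
    unfold bb
    rw [← im_mul]
    exact im_eq (one_mem _) (by rw [mul_one]; exact P.a8 s t)
  a9 s t := by
    unfold bb
    rw [← im_mul]
    exact im_eq (one_mem _) (by rw [mul_one]; exact P.a9 s t)
  c68 s t := by
    unfold bb
    rw [← im_mul, ← im_mul]
    exact im_eq (one_mem _) (by rw [mul_one]; exact D.c10_11 ((P.m6 _).2 ⟨s, rfl⟩) ((P.m8 _).2 ⟨t, rfl⟩))
  c69 s t := by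
    unfold bb
    rw [← im_mul, ← im_mul]
    exact im_eq (one_mem _) (by rw [mul_one]; exact D.c10_12 ((P.m6 _).2 ⟨s, rfl⟩) ((P.m9 _).2 ⟨t, rfl⟩))
  c89 s t := by
    unfold bb
    rw [← im_mul, ← im_mul]
    have h1 := D.k11_12 (inv_mem ((P.m8 _).2 ⟨s, rfl⟩)) (inv_mem ((P.m9 _).2 ⟨t, rfl⟩))
    refine im_eq (Subgroup.mem_sup_right h1) ?_
    show x8 s * x9 t = x9 t * x8 s * ⁅(x8 s)⁻¹, (x9 t)⁻¹⁆
    rw [commutatorElement_def]; group
  c79 s t := by
    unfold bb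
    rw [← im_mul, ← im_mul]
    have h1 := D.k01_12 (inv_mem ((P.m7 _).2 ⟨s, rfl⟩)) (inv_mem ((P.m9 _).2 ⟨t, rfl⟩))
    refine im_eq (Subgroup.mem_sup_left h1) ?_
    show x7 s * x9 t = x9 t * x7 s * ⁅(x7 s)⁻¹, (x9 t)⁻¹⁆
    rw [commutatorElement_def]; group
  r76 u t := by
    obtain ⟨v, hv, e⟩ := P.r76 u t
    unfold bb
    rw [← im_mul, ← im_mul, ← im_mul, ← im_mul]
    exact im_eq hv e
  r78 u t := by
    obtain ⟨v, hv, e⟩ := P.r78 u t
    unfold bb
    rw [← im_mul, ← im_mul, ← im_mul]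
    exact im_eq hv e
  inj s v w hh := by
    unfold bb at hh
    rw [← im_mul, ← im_mul, im_eq_one] at hh
    obtain ⟨h1, h2, h3⟩ := inj3 R D ((P.m6 _).2 ⟨s, rfl⟩) ((P.m8 _).2 ⟨v, rfl⟩) ((P.m9 _).2 ⟨w, rfl⟩) hh
    exact ⟨P.i6 s h1, P.i8 v h2, P.i9 w h3⟩

/-- the elements of `AA` -/
theorem im_AA {g : Y} (hg : g ∈ AA) : ∃ v w : F,
    im X i j ⟨g, AA_le_norm D hg⟩ = Rel.phi B6 B8 B9 (0, v, w) := by
  have R0 := rel P R D
  have key : AA ≤ ((R0.hom.comp (AddMonoidHom.toMultiplicative (AddMonoidHom.inr F (F × F)))).range.comap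
      (QuotientGroup.mk' ((VV).subgroupOf (NV)))).map
        (NV).subtype := by
    refine sup_le (fun g hg => ?_) (sup_le (sup_le (fun g hg => ?_) (fun g hg => ?_)) (fun g hg => ?_))
    · obtain ⟨v, rfl⟩ := (P.m8 _).1 hg
      refine ⟨⟨x8 v, x8n P D v⟩, ⟨Multiplicative.ofAdd (v, 0), ?_⟩, rfl⟩
      show Rel.phi B6 B8 B9 (0, v, 0) = im X i j _
      unfold Rel.phi
      have e6 : (B6 0) = 1 := by
        have := R0.a6 0 0
        rw [add_zero] at this
        exact left_eq_mul.1 this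
      have e9 : (B9 0) = 1 := by
        have := R0.a9 0 0
        rw [add_zero] at this
        exact left_eq_mul.1 this
      show B6 0 * B8 v * B9 0 = _
      rw [e6, e9, one_mul, mul_one]
      rfl
    · obtain ⟨v, rfl⟩ := (P.m9 _).1 hg
      refine ⟨⟨x9 v, x9n P D v⟩, ⟨Multiplicative.ofAdd (0, v), ?_⟩, rfl⟩
      show Rel.phi B6 B8 B9 (0, 0, v) = im X i j _
      unfold Rel.phi
      have e6 : (B6 0) = 1 := by
        have := R0.a6 0 0
        rw [add_zero] at this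
        exact left_eq_mul.1 this
      have e9 : (B8 0) = 1 := by
        have := R0.a8 0 0
        rw [add_zero] at this
        exact left_eq_mul.1 this
      show B6 0 * B8 0 * B9 v = _
      rw [e6, e9, one_mul, one_mul]
      rfl
    · have hg' : g ∈ VV := Subgroup.mem_sup_left hg
      refine ⟨⟨g, Subgroup.le_normalizer hg'⟩, ?_, rfl⟩
      have h1 : im X i j ⟨g, Subgroup.le_normalizer hg'⟩ = 1 := im_eq_one.2 hg'
      show im X i j ⟨g, Subgroup.le_normalizer hg'⟩ ∈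
        (R0.hom.comp (AddMonoidHom.toMultiplicative (AddMonoidHom.inr F (F × F)))).range
      rw [h1]
      exact one_mem _
    · have hg' : g ∈ VV := Subgroup.mem_sup_right hg
      refine ⟨⟨g, Subgroup.le_normalizer hg'⟩, ?_, rfl⟩
      have h1 : im X i j ⟨g, Subgroup.le_normalizer hg'⟩ = 1 := im_eq_one.2 hg'
      show im X i j ⟨g, Subgroup.le_normalizer hg'⟩ ∈
        (R0.hom.comp (AddMonoidHom.toMultiplicative (AddMonoidHom.inr F (F × F)))).range
      rw [h1]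
      exact one_mem _
  obtain ⟨⟨g', hg'⟩, ⟨z, hz⟩, e⟩ := key hg
  have e' : g' = g := e
  subst e'
  exact ⟨z.toAdd.1, z.toAdd.2, hz.symm⟩

/-- the elements of `V_j` -/
theorem im_Vj {g : Y} (hg : g ∈ V0 ⊔ AA) : ∃ (hn : g ∈ NV) (s v w : F),
    im X i j ⟨g, hn⟩ = Rel.phi B6 B8 B9 (s, v, w) := by
  have R0 := rel P R D
  have key : V0 ⊔ AA ≤ (R0.hom.range.comap
      (QuotientGroup.mk' ((VV).subgroupOf (NV)))).map
        (NV).subtype := by
    refine sup_le (fun g hg => ?_) (fun g hg => ?_)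
    · obtain ⟨v, rfl⟩ := (P.m6 _).1 hg
      refine ⟨⟨x6 v, x6n P D v⟩, ⟨Multiplicative.ofAdd (v, 0, 0), ?_⟩, rfl⟩
      show Rel.phi B6 B8 B9 (v, 0, 0) = im X i j _
      unfold Rel.phi
      have e6 : (B8 0) = 1 := by
        have := R0.a8 0 0
        rw [add_zero] at this
        exact left_eq_mul.1 this
      have e9 : (B9 0) = 1 := by
        have := R0.a9 0 0
        rw [add_zero] at this
        exact left_eq_mul.1 this
      show B6 v * B8 0 * B9 0 = _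
      rw [e6, e9, mul_one, mul_one]
      rfl
    · obtain ⟨v, w, e⟩ := im_AA P R D hg
      exact ⟨⟨g, AA_le_norm D hg⟩, ⟨Multiplicative.ofAdd (0, v, w), e.symm⟩, rfl⟩
  obtain ⟨⟨g', hg'⟩, ⟨z, hz⟩, e⟩ := key hg
  have e' : g' = g := e
  subst e'
  exact ⟨hg', z.toAdd.1, z.toAdd.2.1, z.toAdd.2.2, hz.symm⟩

/-- the elements of `V_i` -/
theorem im_Vi {g : Y} (hg : g ∈ GG1 ⊔ AA) : ∃ (hn : g ∈ NV) (t v w : F),
    im X i j ⟨g, hn⟩ = B7 t * Rel.phi B6 B8 B9 (0, v, w) := by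
  have R0 := rel P R D
  have hGA : ∀ r ∈ GG1, ∀ k ∈ AA, r * k * r⁻¹ ∈ AA := by
    intro r hr
    refine conj_sup (fun x hx => ?_) (fun x hx => Subgroup.mem_sup_right (n01_N2 D hr x hx))
    exact conj_of_comm (Subgroup.mem_sup_right (D.k01_11 hr hx)) (Subgroup.mem_sup_left hx)
  have h1 : GG1 ≤ Subgroup.normalizer (AA : Set Y) := fun g hg => mem_norm_of hGA hg
  have h2 : g ∈ ((GG1 ⊔ AA : Subgroup Y) : Set Y) := hg
  rw [Subgroup.coe_mul_of_left_le_normalizer_right _ _ h1, Set.mem_mul] at h2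
  obtain ⟨r, hr, k, hk, rfl⟩ := h2
  obtain ⟨t, rfl⟩ := (P.m7 _).1 hr
  obtain ⟨v, w, e⟩ := im_AA P R D hk
  refine ⟨mul_mem (x7n P D t) (AA_le_norm D hk), t, v, w, ?_⟩
  rw [← e]
  exact im_mul ⟨x7 t, x7n P D t⟩ ⟨k, AA_le_norm D hk⟩

/-- membership in `AA` from the image -/
theorem mem_AA_of_im {g : Y} (hn : g ∈ NV) {v w : F}
    (e : im X i j ⟨g, hn⟩ = Rel.phi B6 B8 B9 (0, v, w)) : g ∈ AA := by
  have R0 := rel P R D
  have e6 : (B6 0) = 1 := by
    have := R0.a6 0 0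
    rw [add_zero] at this
    exact left_eq_mul.1 this
  have e1 : im X i j ⟨g, hn⟩ = im X i j (⟨x8 v, x8n P D v⟩ * ⟨x9 w, x9n P D w⟩) := by
    rw [e, im_mul]
    show B6 0 * B8 v * B9 w = _
    rw [e6, one_mul]
    rfl
  have e2 : im X i j ((⟨x8 v, x8n P D v⟩ * ⟨x9 w, x9n P D w⟩)⁻¹ * ⟨g, hn⟩) = 1 := by
    rw [im_mul, e1, im_inv, inv_mul_cancel]
  have e3 : (x8 v * x9 w)⁻¹ * g ∈ VV := im_eq_one.1 e2
  have e4 : g = x8 v * x9 w * ((x8 v * x9 w)⁻¹ * g) := by group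
  rw [e4]
  refine mul_mem (mul_mem (Subgroup.mem_sup_left ((P.m8 _).2 ⟨v, rfl⟩))
    (Subgroup.mem_sup_right (Subgroup.mem_sup_left (Subgroup.mem_sup_left ((P.m9 _).2 ⟨w, rfl⟩))))) ?_
  exact Subgroup.mem_sup_right ((sup_le (le_trans le_sup_right le_sup_left) le_sup_right : VV ≤ NN2) e3)

/-- **No special pairs.** -/
theorem key_false [Finite Y] (hall : ∀ k, k = i ∨ k = j) {x y : Y} (hx : x ∈ VJ cs h X {j})
    (hx' : x ∉ VJ cs h X {i}) (hy : y ∈ VJ cs h X {i}) (hy' : y ∉ VJ cs h X {j}) (hy3 : y ^ 3 = 1)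
    (hP : IsPGroup 3 ↥(Subgroup.closure ({x, y} : Set Y)))
    (hW : WFree 3 ↥(Subgroup.closure ({x, y} : Set Y))) : False := by
  have R0 := rel P R D
  obtain ⟨hxn, s, v, w, ex⟩ := im_Vj P R D (VJj_le D hall hx)
  obtain ⟨hyn, t, v', w', ey⟩ := im_Vi P R D (VJi_le D hall hy)
  have hs : s ≠ 0 := by
    rintro rfl
    exact hx' (AA_le D i (Or.inl rfl) (mem_AA_of_im P R D hxn ex))
  have ht : t ≠ 0 := by
    rintro rfl
    have e7 : (B7 0) = 1 := R0.z7
    rw [e7, one_mul] at ey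
    exact hy' (AA_le D j (Or.inr rfl) (mem_AA_of_im P R D hyn ey))
  have h1 := R0.not_mem hs ht (s, v, w) (0, v', w') rfl ex ey
  apply h1
  set x' : ↥(NV) := ⟨x, hxn⟩ with hx'def
  set y' : ↥(NV) := ⟨y, hyn⟩ with hy'def
  -- transport
  have c1 : (Subgroup.closure ({y', x'} : Set ↥(NV))).map
      (NV).subtype = Subgroup.closure ({x, y} : Set Y) := by
    rw [closure_pair_map, Set.pair_comm]; rfl
  have c2 : (Subgroup.closure ({y', x'} : Set ↥(NV))).map
      (QuotientGroup.mk' ((VV).subgroupOf (NV))) =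
      Subgroup.closure ({im X i j y', im X i j x'} : Set (Q X i j)) := by
    rw [closure_pair_map]; rfl
  have eqv := Subgroup.equivMapOfInjective
    (Subgroup.closure ({y', x'} : Set ↥(NV)))
    (NV).subtype (Subgroup.subtype_injective _)
  rw [← c1] at hP hW
  have hP1 : IsPGroup 3 ↥(Subgroup.closure ({y', x'} : Set ↥(NV))) :=
    hP.of_equiv eqv.symm
  have hW1 : WFree 3 ↥(Subgroup.closure ({y', x'} : Set ↥(NV))) :=
    hW.of_injective eqv.toMonoidHom eqv.injective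
  have hP2 := hP1.map (QuotientGroup.mk' ((VV).subgroupOf (NV)))
  have hW2 := hW1.map (QuotientGroup.mk' ((VV).subgroupOf (NV)))
  rw [c2] at hP2 hW2
  refine Cfsg.Agent.H533.Wf.key3 (c := im X i j y') (d := im X i j x') ?_ hP2 hW2 ?_ ?_
  · have : im X i j y' ^ 3 = im X i j (y' ^ 3) := (map_pow _ _ _).symm
    rw [this, im_eq_one]
    have e : ((y' ^ 3 : ↥(NV)) : Y) = y ^ 3 := rfl
    rw [e, hy3]
    exact one_mem _
  · exact Subgroup.subset_closure (by simp)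
  · exact Subgroup.subset_closure (by simp)

end Main

end Cfsg.Agent.H388.Wf.GTwo
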