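import Cfsg.Agent.H388.Wf.GTwo
import Cfsg.Agent.H388.Wf.Chev
import Cfsg.Agent.H70.ChevFix

/-!
# S3826 for `G₂(3^a)` (helper388): `wf_g2_own`
-/

set_option autoImplicit false
set_option linter.unusedSectionVars false
set_option maxHeartbeats 400000

namespace Cfsg.Agent.H388.Wf.GTwoRow

open Matrix CoxeterSystem Cfsg.Agent.ChevalleyStructure.CoxeterGeom Cfsg.Agent.Tits.Roots Cfsg.Agent.Tits.Core
  Cfsg.Agent.Tits.RootComb Cfsg.Agent.Nodes.Comb Cfsg.Agent.Nodes.Reps Cfsg.Agent.Nodes.BNOf Cfsg.Agent.Nodes.BNOf.RGD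
open Cfsg.Lie Cfsg.Agent.ChevalleyStructure Cfsg.Agent.ChevalleyStructure.Elts
  Cfsg.Agent.ChevalleyStructure.NPerm Cfsg.Agent.ChevalleyStructure.CoxeterGeomTypes Cfsg.Agent.Nodes.RGDChev
open Cfsg.Agent.Nodes.LeviDec Cfsg.Agent.KFacts.RgdFilt
open Cfsg.Agent.KFacts.RgdChevCoord
open Cfsg.Agent.H533.T5 Cfsg.Agent.H798.T5Geo Cfsg.Agent.H798.T5GTwo Cfsg.Agent.H798.T5Untw
open Cfsg.Agent.H70.ChevFix (xe mem_XX xe_add xe_zero)

theorem hp : IsType chevG2 2 CoxeterMatrix.G₂ := by simp [IsType, typeList]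

theorem vec_eq {r : ℕ} {a g : ℤ} (h1 : RootVec.rt chevG2 r 1 = a) (h0 : RootVec.rt chevG2 r 0 = g) :
    vec chevG2 2 r = H798.T5Root.rt (1 : Fin 2) 0 a g := by
  funext k
  fin_cases k
  · rw [show ((⟨0, by norm_num⟩ : Fin 2)) = 0 from rfl, H798.T5Root.rt_right (by decide)]
    exact h0
  · rw [show ((⟨1, by norm_num⟩ : Fin 2)) = 1 from rfl, H798.T5Root.rt_left (by decide)]
    exact h1

theorem v6 : vec chevG2 2 6 = H798.T5Root.rt (1 : Fin 2) 0 1 0 := vec_eq (by decide +kernel) (by decide +kernel)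
theorem v7 : vec chevG2 2 7 = H798.T5Root.rt (1 : Fin 2) 0 0 1 := vec_eq (by decide +kernel) (by decide +kernel)
theorem v8 : vec chevG2 2 8 = H798.T5Root.rt (1 : Fin 2) 0 1 1 := vec_eq (by decide +kernel) (by decide +kernel)
theorem v9 : vec chevG2 2 9 = H798.T5Root.rt (1 : Fin 2) 0 1 2 := vec_eq (by decide +kernel) (by decide +kernel)
theorem v10 : vec chevG2 2 10 = H798.T5Root.rt (1 : Fin 2) 0 1 3 := vec_eq (by decide +kernel) (by decide +kernel)
theorem v11 : vec chevG2 2 11 = H798.T5Root.rt (1 : Fin 2) 0 2 3 := vec_eq (by decide +kernel) (by decide +kernel)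

theorem nroots : chevG2.nroots = 12 := by decide +kernel

variable {F : Type} [Field F]

/-- `x_r(t)` -/
abbrev x (r : ℕ) (t : F) : ↥(chevG2.group F) := xe hp.inList r t

theorem mem_X {r : ℕ} (hr : r < 12) {v : Fin 2 → ℤ} (hv : vec chevG2 2 r = v) (g : ↥(chevG2.group F)) :
    g ∈ XX chevG2 2 F v ↔ ∃ t, g = x r t := by
  rw [← hv]
  show g ∈ (XV chevG2 2 F (vec chevG2 2 r)).subgroupOf (chevG2.group F) ↔ _
  rw [XV_vec hp F (by rw [nroots]; exact hr)]
  exact mem_XX hp.inList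

theorem x_inj {r : ℕ} (hr : r < 12) {t : F} (h : x r t = 1) : t = 0 := by
  have h1 : xG hp.inList r t = 1 := congrArg Subtype.val h
  have h2 : xG hp.inList r t = xG hp.inList r (0 : F) := by rw [h1, xG_zero]
  exact xG_injective hp.inList (by rw [nroots]; exact hr) h2

theorem comm {r s : ℕ} (hr : r < 12) (hs : s < 12) (hrs : s ≠ r) (hneg : s ≠ chevG2.neg r) (t u : F) :
    xG hp.inList s u * xG hp.inList r t = xG hp.inList r t * xG hp.inList s u *
      wordG hp.inList (chevG2.commWord F r s t u) := by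
  apply Units.ext
  rw [Units.val_mul, Units.val_mul, Units.val_mul, coe_wordG, coe_xG, coe_xG]
  exact Cfsg.Agent.S1025.result chevG2 hp.inList r s (by rw [nroots]; exact hr) (by rw [nroots]; exact hs) hrs
    hneg t u

theorem c67 : chevG2.commTerms 6 7 = [(8, 1, 1, 1), (9, 1, 1, 2), (10, -1, 1, 3), (11, -2, 2, 3)] := by
  decide +kernel

theorem c87 : chevG2.commTerms 8 7 = [(9, 2, 1, 1), (11, 3, 2, 1), (10, -3, 1, 2)] := by
  decide +kernel

theorem r67 (u t : F) : x 7 u * x 6 t = x 6 t * x 7 u * x 8 (-(t * u)) * x 9 (-(t * u ^ 2)) *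
    (x 10 (t * u ^ 3) * x 11 (-(2 * t ^ 2 * u ^ 3))) := by
  apply Subtype.ext
  show xG hp.inList 7 u * xG hp.inList 6 t = xG hp.inList 6 t * xG hp.inList 7 u * xG hp.inList 8 (-(t * u)) *
    xG hp.inList 9 (-(t * u ^ 2)) * (xG hp.inList 10 (t * u ^ 3) * xG hp.inList 11 (-(2 * t ^ 2 * u ^ 3)))
  rw [comm (r := 6) (s := 7) (by norm_num) (by norm_num) (by norm_num) (by decide +kernel) t u,
    ChevalleyDatum.commWord, c67]
  simp only [List.map_cons, List.map_nil, wordG_cons, wordG_nil, mul_one]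
  have e1 : ((1 : ℤ) : F) * (-t) ^ 1 * u ^ 1 = -(t * u) := by push_cast; ring
  have e2 : ((1 : ℤ) : F) * (-t) ^ 1 * u ^ 2 = -(t * u ^ 2) := by push_cast; ring
  have e3 : ((-1 : ℤ) : F) * (-t) ^ 1 * u ^ 3 = t * u ^ 3 := by push_cast; ring
  have e4 : ((-2 : ℤ) : F) * (-t) ^ 2 * u ^ 3 = -(2 * t ^ 2 * u ^ 3) := by push_cast; ring
  rw [e1, e2, e3, e4]
  simp only [mul_assoc]

theorem r87 (u t : F) : x 7 u * x 8 t = x 8 t * x 7 u * x 9 (-(2 * t * u)) *
    (x 11 (3 * t ^ 2 * u) * x 10 (3 * t * u ^ 2)) := by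
  apply Subtype.ext
  show xG hp.inList 7 u * xG hp.inList 8 t = xG hp.inList 8 t * xG hp.inList 7 u * xG hp.inList 9 (-(2 * t * u)) *
    (xG hp.inList 11 (3 * t ^ 2 * u) * xG hp.inList 10 (3 * t * u ^ 2))
  rw [comm (r := 8) (s := 7) (by norm_num) (by norm_num) (by norm_num) (by decide +kernel) t u,
    ChevalleyDatum.commWord, c87]
  simp only [List.map_cons, List.map_nil, wordG_cons, wordG_nil, mul_one]
  have e1 : ((2 : ℤ) : F) * (-t) ^ 1 * u ^ 1 = -(2 * t * u) := by push_cast; ring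
  have e2 : ((3 : ℤ) : F) * (-t) ^ 2 * u ^ 1 = 3 * t ^ 2 * u := by push_cast; ring
  have e3 : ((-3 : ℤ) : F) * (-t) ^ 1 * u ^ 2 = 3 * t * u ^ 2 := by push_cast; ring
  rw [e1, e2, e3]
  simp only [mul_assoc]

theorem par : GTwo.Par (XX chevG2 2 F) 1 0 (x 6) (x 7) (x 8) (x 9) where
  m6 := mem_X (by norm_num) v6
  m7 := mem_X (by norm_num) v7
  m8 := mem_X (by norm_num) v8
  m9 := mem_X (by norm_num) v9
  a6 := xe_add hp.inList 6
  a7 := xe_add hp.inList 7
  a8 := xe_add hp.inList 8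
  a9 := xe_add hp.inList 9
  i6 := fun _ h => x_inj (by norm_num) h
  i8 := fun _ h => x_inj (by norm_num) h
  i9 := fun _ h => x_inj (by norm_num) h
  r76 := fun u t => ⟨_, mul_mem (Subgroup.mem_sup_left ((mem_X (by norm_num) v10 _).2 ⟨_, rfl⟩))
    (Subgroup.mem_sup_right ((mem_X (by norm_num) v11 _).2 ⟨_, rfl⟩)), r67 u t⟩
  r78 := fun u t => ⟨_, mul_mem (Subgroup.mem_sup_right ((mem_X (by norm_num) v11 _).2 ⟨_, rfl⟩))
    (Subgroup.mem_sup_left ((mem_X (by norm_num) v10 _).2 ⟨_, rfl⟩)), r87 u t⟩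

local notation "cG" => CoxeterMatrix.toCoxeterSystem CoxeterMatrix.G₂

/-- the special pairs -/
theorem fpair [Finite F] [CharP F 3] {a b : ↥(chevG2.group F)} (hb : b ^ 3 = 1)
    (ha1 : NT cG hp.isCartan (XX chevG2 2 F) a 1) (ha0 : ¬ NT cG hp.isCartan (XX chevG2 2 F) a 0)
    (hb0 : NT cG hp.isCartan (XX chevG2 2 F) b 0) (hb1 : ¬ NT cG hp.isCartan (XX chevG2 2 F) b 1) :
    Asm.FPair 3 (⊤ : Subgroup ↥(chevG2.group F)) a b := by
  have : Fact (Nat.Prime 3) := ⟨Nat.prime_three⟩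
  have hW : Finite (CoxeterMatrix.G₂).Group := finite_W hp cG
  have R := rgd (K := F) hp cG 3
  have D : G2 cG hp.isCartan (XX chevG2 2 F) 1 0 := ⟨by decide, by decide, by decide, intComm_chev hp F⟩
  obtain ⟨g, h1, h2⟩ := ha1
  obtain ⟨k, h3, h4⟩ := hb0
  have h5 := mem_V_of_not_NT ha0 g h1
  have h6 := mem_V_of_not_NT hb1 k h3
  refine Asm.FPair.conj (s := g) (t := k) ⟨1, Subgroup.mem_top _, fun hh => ?_⟩
  rw [one_mul, inv_one, mul_one] at hh
  refine GTwo.key_false par R D (by decide) h5 h2 h6 h4 ?_ hh.1 hh.2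
  rw [conj_pow, hb, mul_one, mul_inv_cancel]

/-- **S3826 for `G₂(3^a)`**, all pairs of automorphisms of order three. -/
theorem frow_g2 {F : Type} [Field F] [Fintype F] [CharP F 3] : Asm.FRow 3 ↥(chevG2.group F) := by
  have : Fact (Nat.Prime 3) := ⟨Nat.prime_three⟩
  obtain ⟨hs, hna⟩ := Cfsg.Agent.S1055.result (F := F) (CpAut.RgdUntw.exists_ne 3 Nat.prime_three (by norm_num) F)
  refine Chev.frow_chev hp F 3 (comm_of_not hna) (by norm_num) (by norm_num)
    (CpAut.RgdUntw.symTwo_G2.eq_one Fact.out (by norm_num)) fun a b ha hb ha1 hb1 => ?_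
  by_cases hcom : ∃ i, NT cG hp.isCartan (XX chevG2 2 F) a i ∧ NT cG hp.isCartan (XX chevG2 2 F) b i
  · exact Or.inl hcom
  right
  push Not at hcom
  obtain ⟨i, hi⟩ := Chev.exists_NT_chev hp F 3 (by norm_num) ha ha1
  obtain ⟨j, hj⟩ := Chev.exists_NT_chev hp F 3 (by norm_num) hb hb1
  have n0 := hcom 0
  have n1 := hcom 1
  fin_cases i <;> fin_cases j
  · exact absurd hj (n0 hi)
  · exact (fpair ha hj (fun h => n0 hi h) hi (fun h => n1 h hj)).symm
  · exact fpair hb hi (fun h => n0 h hj) hj (fun h => n1 hi h)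
  · exact absurd hj (n1 hi)

universe u

/-- **The row of S3826 for `G₂(3^a)`.** -/
theorem wf_g2_own {F : Type} [Field F] [Fintype F] [CharP F 3] :
    Cfsg.Agent.H533.Wf.WfRow.{u, 0} 3 ↥(Cfsg.Lie.chevG2.group F) := by
  have : Fact (Nat.Prime 3) := ⟨Nat.prime_three⟩
  exact Asm.WfRow.of_frow frow_g2

end Cfsg.Agent.H388.Wf.GTwoRow
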