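import Cfsg.Agent.H14.CycLine
import Cfsg.Agent.H533.T5.Defs

/-!
# Weak pairs on the projective line, own characteristic (helper388, for S3826)

`w2_line` : two permutations `≠ 1` of order `p` (odd) of the projective line over a finite field of
characteristic `p`, permuting the root groups, are a weak pair for the group generated by the root
groups.
-/

set_option autoImplicit false

namespace Cfsg.Agent.H388.Wf.Line

open Cfsg.Agent.FixBN Cfsg.Agent.FixBN.RankOneL2 Cfsg.Agent.H14.CycLine Cfsg.Agent.H533.T5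

section group

variable {X : Type*}

/-- A `p`-group of permutations fixing a set of points. -/
theorem card_fix {p : ℕ} [Fact p.Prime] [Finite X] {K : Subgroup (Equiv.Perm X)} (hK : IsPGroup p K) :
    Nat.card X ≡ Nat.card {x : X | ∀ k ∈ K, k x = x} [MOD p] := by
  have h1 := hK.card_modEq_card_fixedPoints X
  have h2 : MulAction.fixedPoints K X = {x : X | ∀ k ∈ K, k x = x} := by
    ext x
    rw [MulAction.mem_fixedPoints]
    constructor
    · intro h k hk
      exact h ⟨k, hk⟩
    · rintro h ⟨k, hk⟩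
      exact h k hk
  rwa [h2] at h1

/-- the points fixed by `⟨a, b⟩` -/
theorem fix_of_closure {a b : Equiv.Perm X} {x : X} :
    (∀ k ∈ Subgroup.closure ({a, b} : Set (Equiv.Perm X)), k x = x) ↔ a x = x ∧ b x = x := by
  constructor
  · intro h
    exact ⟨h a (Subgroup.subset_closure (by simp)), h b (Subgroup.subset_closure (by simp))⟩
  · rintro ⟨h1, h2⟩ k hk
    have h3 : Subgroup.closure ({a, b} : Set (Equiv.Perm X)) ≤ MulAction.stabilizer (Equiv.Perm X) x := by
      rw [Subgroup.closure_le]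
      rintro y (rfl | rfl)
      · exact h1
      · exact h2
    exact h3 hk

end group

section field

variable {F : Type*} [Field F]

/-- The fixed field of an automorphism of order `p` of a finite field. -/
theorem card_fixed [Finite F] {p : ℕ} (hp : p.Prime) {φ : F ≃+* F} (hφ : orderOf (φ : RingAut F) = p) :
    Nat.card F = Nat.card {x : F | φ x = x} ^ p := by
  let G := Subgroup.zpowers (φ : RingAut F)
  have hG : Nat.card G = p := by rw [Nat.card_zpowers, hφ]
  have : Finite G := Nat.finite_of_card_ne_zero (by rw [hG]; exact hp.ne_zero)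
  have : Fintype G := Fintype.ofFinite G
  have h1 := FixedPoints.finrank_eq_card G F
  rw [← Nat.card_eq_fintype_card, hG] at h1
  have h2 := Module.natCard_eq_pow_finrank (K := FixedPoints.subfield G F) (V := F)
  rw [h1] at h2
  rw [h2]
  congr 1
  refine Nat.card_congr (Equiv.setCongr ?_)
  ext x
  change x ∈ FixedPoints.subfield G F ↔ φ x = x
  constructor
  · intro h
    exact h ⟨φ, Subgroup.mem_zpowers _⟩
  · intro h
    rintro ⟨g, hg⟩
    have h3 : G ≤ MulAction.stabilizer (RingAut F) x := by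
      rw [Subgroup.zpowers_le]
      exact h
    exact h3 hg

/-- A permutation of the root groups fixing `0`, `∞` is `t ↦ m φ(t)`. -/
theorem exists_semi (h2 : (2 : F) ≠ 0) {c : Equiv.Perm (Option F)} (hc : c ∈ famStab (lineFam F))
    (h0 : c none = none) (h1 : c (some 0) = some 0) :
    ∃ (φ : F ≃+* F) (m : F), m ≠ 0 ∧ ∀ t, c (some t) = some (m * φ t) := by
  obtain ⟨φ, T, hT⟩ := exists_lift_fix h2 hc h0 h1
  have e1 : ((1, 0) : F × F) ≠ 0 := by simp
  have e2 : ((0, 1) : F × F) ≠ 0 := by simp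
  have h3 : (T (1, 0)).2 = 0 := by
    have h4 := hT.act _ e1
    rw [pt_zero, h0] at h4
    by_contra h5
    have h6 : pt (T (1, 0)) = some ((T (1, 0)).1 / (T (1, 0)).2) := pt_ne _ h5
    rw [h6] at h4
    exact Option.some_ne_none _ h4.symm
  have h4 : (T (0, 1)).1 = 0 ∧ (T (0, 1)).2 ≠ 0 := by
    have h4 := hT.act _ e2
    rw [pt_ne _ one_ne_zero, zero_div, h1] at h4
    by_cases h5 : (T (0, 1)).2 = 0
    · exfalso
      have h6 : pt (T (0, 1)) = none := by
        have h7 : T (0, 1) = ((T (0, 1)).1, 0) := Prod.ext rfl h5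
        rw [h7, pt_zero]
      rw [h6] at h4
      exact Option.some_ne_none _ h4
    · have h6 : pt (T (0, 1)) = some ((T (0, 1)).1 / (T (0, 1)).2) := pt_ne _ h5
      rw [h6] at h4
      have h7 := Option.some_injective _ h4
      exact ⟨by
        rcases div_eq_zero_iff.1 h7.symm with h8 | h8
        · exact h8
        · exact absurd h8 h5, h5⟩
  set a := (T (1, 0)).1 with ha
  set r := (T (0, 1)).2 with hr
  have ha0 : a ≠ 0 := by
    intro h5
    apply map_ne_zero' T e1
    exact Prod.ext h5 h3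
  refine ⟨φ, a / r, div_ne_zero ha0 h4.2, fun t => ?_⟩
  have h5 : ((t, 1) : F × F) ≠ 0 := by simp
  have h6 := hT.act _ h5
  rw [pt_ne _ one_ne_zero, div_one] at h6
  have h7 : T (t, 1) = (φ t * a, r) := by
    have h8 : ((t, 1) : F × F) = t • ((1, 0) : F × F) + ((0, 1) : F × F) := by simp
    rw [h8, map_add, hT.semi]
    refine Prod.ext ?_ ?_
    · show φ t * (T (1, 0)).1 + (T (0, 1)).1 = φ t * a
      rw [h4.1, add_zero]
    · show φ t * (T (1, 0)).2 + (T (0, 1)).2 = r
      rw [h3, mul_zero, zero_add]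
  rw [h6, h7, pt_ne _ h4.2]
  congr 1
  ring

/-- The number of fixed points `t ≠ 0, ∞` of an element of order `p`. -/
theorem card_fix_semi [Finite F] {p : ℕ} [Fact p.Prime] [CharP F p] (h2 : (2 : F) ≠ 0)
    {c : Equiv.Perm (Option F)} (hc : c ∈ famStab (lineFam F))
    (h0 : c none = none) (h1 : c (some 0) = some 0) (hp : c ^ p = 1) (hc1 : c ≠ 1) :
    ∃ k : ℕ, 1 ≤ k ∧ k ^ p = Nat.card F ∧ Nat.card {x : F | x ≠ 0 ∧ c (some x) = some x} + 1 ≤ k := by
  have hpp : p.Prime := Fact.out
  obtain ⟨φ, m, hm, h3⟩ := exists_semi h2 hc h0 h1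
  have h4 : ∀ n : ℕ, ∃ a : F, ∀ t, (c ^ n) (some t) = some (a * ((φ : RingAut F) ^ n) t) := by
    intro n
    induction n with
    | zero => exact ⟨1, fun t => by simp⟩
    | succ n ih =>
      obtain ⟨a, ha⟩ := ih
      refine ⟨m * φ a, fun t => ?_⟩
      rw [pow_succ', Equiv.Perm.mul_apply, ha, h3, map_mul, pow_succ']
      show some (m * (φ a * φ (((φ : RingAut F) ^ n) t))) = some (m * φ a * φ (((φ : RingAut F) ^ n) t))
      rw [mul_assoc]
  have hord : orderOf (φ : RingAut F) = p := by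
    apply orderOf_eq_prime
    · obtain ⟨a, ha⟩ := h4 p
      rw [hp] at ha
      have h5 : ∀ t : F, t = a * ((φ : RingAut F) ^ p) t := fun t => Option.some_injective _ (ha t)
      have h6 : a = 1 := by
        have := h5 1
        rw [map_one, mul_one] at this
        exact this.symm
      ext t
      have := h5 t
      rw [h6, one_mul] at this
      exact this.symm
    · intro hφ
      apply hc1
      have h5 : ∀ n : ℕ, ∀ t : F, (c ^ n) (some t) = some (m ^ n * t) := by
        intro n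
        induction n with
        | zero => intro t; simp
        | succ n ih =>
          intro t
          rw [pow_succ', Equiv.Perm.mul_apply, ih, h3]
          have h6 : φ (m ^ n * t) = m ^ n * t := by
            have := congrArg (fun f : RingAut F => f (m ^ n * t)) hφ
            exact this
          rw [h6, pow_succ']
          congr 1
          ring
      have h6 := h5 p 1
      rw [hp] at h6
      have h7 : m ^ p = 1 := by
        have := Option.some_injective _ h6
        rw [mul_one] at this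
        exact this.symm
      have h8 : m = 1 := by
        have h9 : (m - 1) ^ p = 0 := by
          rw [sub_pow_char, h7, one_pow, sub_self]
        exact sub_eq_zero.1 (pow_eq_zero_iff hpp.ne_zero |>.1 h9)
      apply Equiv.ext
      rintro (_ | t)
      · exact h0
      · have := h5 1 t
        rw [pow_one, h8, pow_one, one_mul] at this
        exact this
  refine ⟨Nat.card {x : F | φ x = x}, ?_, (card_fixed hpp hord).symm, ?_⟩
  · rw [Nat.one_le_iff_ne_zero, Nat.card_ne_zero]
    exact ⟨⟨⟨0, map_zero φ⟩⟩, inferInstance⟩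
  · -- an injection of the fixed points into the fixed field without `0`
    by_cases hne : Nonempty {x : F | x ≠ 0 ∧ c (some x) = some x}
    · obtain ⟨⟨x₀, hx₀, hx₀'⟩⟩ := hne
      have h5 : ∀ x : F, c (some x) = some x → m * φ x = x := fun x hx => by
        rw [h3] at hx
        exact Option.some_injective _ hx
      have h6 := h5 x₀ hx₀'
      let f : Option {x : F | x ≠ 0 ∧ c (some x) = some x} → {x : F | φ x = x} := fun o =>
        o.elim ⟨0, map_zero φ⟩ (fun x => ⟨x.1 / x₀, by
          show φ (x.1 / x₀) = x.1 / x₀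
          have h7 := h5 x.1 x.2.2
          rw [map_div₀, ← mul_div_mul_left _ _ hm, h7, h6]⟩)
      have hf : Function.Injective f := by
        rintro (_ | x) (_ | y) hxy
        · rfl
        · exfalso
          have h7 : (0 : F) = y.1 / x₀ := congrArg Subtype.val hxy
          exact div_ne_zero y.2.1 hx₀ h7.symm
        · exfalso
          have h7 : x.1 / x₀ = (0 : F) := congrArg Subtype.val hxy
          exact div_ne_zero x.2.1 hx₀ h7
        · have h7 : x.1 / x₀ = y.1 / x₀ := congrArg Subtype.val hxy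
          congr 1
          apply Subtype.ext
          exact (div_left_inj' hx₀).1 h7
      have h8 := Nat.card_le_card_of_injective f hf
      rwa [Finite.card_option] at h8
    · have h5 : Nat.card {x : F | x ≠ 0 ∧ c (some x) = some x} = 0 := by
        rw [not_nonempty_iff] at hne
        exact Nat.card_of_isEmpty
      rw [h5, zero_add, Nat.one_le_iff_ne_zero, Nat.card_ne_zero]
      exact ⟨⟨⟨0, map_zero φ⟩⟩, inferInstance⟩

/-- Two elements of order `p` fixing `0` and `∞`. -/
theorem wpair_two [Finite F] {p : ℕ} [Fact p.Prime] [CharP F p] (hp2 : p ≠ 2)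
    {g₁ g₂ : Equiv.Perm (Option F)} (h₁ : g₁ ∈ famStab (lineFam F)) (h₂ : g₂ ∈ famStab (lineFam F))
    (o₁ : g₁ ^ p = 1) (o₂ : g₂ ^ p = 1) (n₁ : g₁ ≠ 1) (n₂ : g₂ ≠ 1) (a₁ : g₁ none = none)
    (b₁ : g₁ (some 0) = some 0) (a₂ : g₂ none = none) (b₂ : g₂ (some 0) = some 0) :
    WPair p (psl2 F) g₁ g₂ := by
  classical
  have hpp : p.Prime := Fact.out
  have h2 : (2 : F) ≠ 0 := by
    intro h
    have h3 : ((2 : ℕ) : F) = 0 := by exact_mod_cast h
    rw [CharP.cast_eq_zero_iff F p] at h3
    exact hp2 ((Nat.prime_dvd_prime_iff_eq hpp Nat.prime_two).1 h3)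
  have : Fintype F := Fintype.ofFinite F
  obtain ⟨k₁, hk₁, hq₁, hc₁⟩ := card_fix_semi h2 h₁ a₁ b₁ o₁ n₁
  obtain ⟨k₂, hk₂, hq₂, hc₂⟩ := card_fix_semi h2 h₂ a₂ b₂ o₂ n₂
  by_contra hcon
  set S₁ : Set F := {x : F | x ≠ 0 ∧ g₁ (some x) = some x} with hS₁
  set S₂ : Set F := {x : F | x ≠ 0 ∧ g₂ (some x) = some x} with hS₂
  have hkk : k₁ = k₂ := Nat.pow_left_injective hpp.ne_zero (hq₁.trans hq₂.symm)
  subst hkk
  -- the third fixed point
  have hpcard : p ∣ Fintype.card F := by
    obtain ⟨n, hpn, hn⟩ := FiniteField.card F p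
    rw [hn]
    exact dvd_pow_self p n.pos.ne'
  have key : ∀ u : F, u ≠ 0 → ∃ x ∈ S₁, ∃ y ∈ S₂, x = u ^ 2 * y := by
    intro u hu
    have hK : IsPGroup p ↥(Subgroup.closure ({g₁, dil u * g₂ * (dil u)⁻¹} : Set (Equiv.Perm (Option F)))) := by
      by_contra hK
      exact hcon ⟨dil u, dil_mem u, hK⟩
    have hd : ∀ t : F, (dil u)⁻¹ (some t) = some ((u ^ 2)⁻¹ * t) := by
      intro t
      rw [Equiv.Perm.inv_eq_iff_eq, dil_some' hu, mul_inv_cancel_left₀ (pow_ne_zero 2 hu)]
    have hdn : (dil u)⁻¹ (none : Option F) = none := by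
      rw [Equiv.Perm.inv_eq_iff_eq, dil_none' hu]
    have h3 := card_fix hK
    have hn : (none : Option F) ∈ {x : Option F | ∀ k ∈ Subgroup.closure
        ({g₁, dil u * g₂ * (dil u)⁻¹} : Set (Equiv.Perm (Option F))), k x = x} := by
      refine fix_of_closure.2 ⟨a₁, ?_⟩
      rw [Equiv.Perm.mul_apply, Equiv.Perm.mul_apply, hdn, a₂, dil_none' hu]
    have h0 : (some 0 : Option F) ∈ {x : Option F | ∀ k ∈ Subgroup.closure
        ({g₁, dil u * g₂ * (dil u)⁻¹} : Set (Equiv.Perm (Option F))), k x = x} := by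
      refine fix_of_closure.2 ⟨b₁, ?_⟩
      rw [Equiv.Perm.mul_apply, Equiv.Perm.mul_apply, hd, mul_zero, b₂, dil_some' hu, mul_zero]
    set Z : Set (Option F) := {x : Option F | ∀ k ∈ Subgroup.closure
        ({g₁, dil u * g₂ * (dil u)⁻¹} : Set (Equiv.Perm (Option F))), k x = x} with hZ
    have h4 : ∃ t : F, t ≠ 0 ∧ (some t : Option F) ∈ Z := by
      by_contra hno
      push Not at hno
      have h5 : Z = {none, some 0} := by
        ext y
        constructor
        · intro hy
          rcases y with _ | t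
          · simp
          · by_cases ht : t = 0
            · simp [ht]
            · exact absurd hy (hno t ht)
        · rintro (rfl | rfl)
          · exact hn
          · exact h0
      rw [h5] at h3
      have h6 : Nat.card ({none, some 0} : Set (Option F)) = 2 := by
        rw [Nat.card_coe_set_eq]
        exact Set.ncard_pair (by simp)
      rw [h6, Finite.card_option, Nat.card_eq_fintype_card] at h3
      have h7 : Fintype.card F + 1 ≡ 1 [MOD p] := by
        have := (Nat.modEq_zero_iff_dvd.2 hpcard).add_right 1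
        simpa using this
      have h8 : 2 ≡ 1 [MOD p] := h3.symm.trans h7
      have h9 := (Nat.modEq_iff_dvd' (by norm_num : 1 ≤ 2)).1 h8.symm
      exact hpp.one_lt.ne' (Nat.dvd_one.1 h9)
    obtain ⟨t, ht, htZ⟩ := h4
    obtain ⟨h5, h6⟩ := fix_of_closure.1 htZ
    refine ⟨t, ⟨ht, h5⟩, (u ^ 2)⁻¹ * t, ⟨mul_ne_zero (inv_ne_zero (pow_ne_zero 2 hu)) ht, ?_⟩, ?_⟩
    · rw [Equiv.Perm.mul_apply, Equiv.Perm.mul_apply, hd] at h6
      have h7 := congrArg ((dil u)⁻¹ : Equiv.Perm (Option F)) h6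
      rw [hd, ← Equiv.Perm.mul_apply, inv_mul_cancel, Equiv.Perm.one_apply] at h7
      exact h7
    · rw [mul_inv_cancel_left₀ (pow_ne_zero 2 hu)]
  -- counting
  have h3 : Nat.card F - 1 ≤ 2 * ((k₁ - 1) * (k₁ - 1)) := by
    let s : Finset F := Finset.univ.filter (fun u : F => u ≠ 0)
    have hs : s.card = Nat.card F - 1 := by
      have : s = Finset.univ.erase 0 := by
        ext u
        simp [s]
      rw [this, Finset.card_erase_of_mem (Finset.mem_univ _), Finset.card_univ, Nat.card_eq_fintype_card]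
    have h4 := Finset.card_le_mul_card_image (f := fun u : F => u ^ 2) s 2 (by
      intro b hb
      obtain ⟨u, hu, rfl⟩ := Finset.mem_image.1 hb
      refine (Finset.card_le_card (t := {u, -u}) ?_).trans Finset.card_le_two
      intro v hv
      rw [Finset.mem_filter] at hv
      rcases sq_eq_sq_iff_eq_or_eq_neg.1 hv.2 with h | h
      · simp [h]
      · simp [h])
    have h5 : s.image (fun u : F => u ^ 2) ⊆
        (S₁.toFinset ×ˢ S₂.toFinset).image (fun z : F × F => z.1 / z.2) := by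
      intro b hb
      obtain ⟨u, hu, rfl⟩ := Finset.mem_image.1 hb
      have hu' : u ≠ 0 := by simpa [s] using hu
      obtain ⟨x, hx, y, hy, hxy⟩ := key u hu'
      refine Finset.mem_image.2 ⟨(x, y), Finset.mem_product.2 ⟨by simpa using hx, by simpa using hy⟩, ?_⟩
      show x / y = u ^ 2
      rw [hxy, mul_div_cancel_right₀ _ hy.1]
    have h6 := (Finset.card_le_card h5).trans Finset.card_image_le
    rw [Finset.card_product, Set.toFinset_card, Set.toFinset_card, ← Nat.card_eq_fintype_card,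
      ← Nat.card_eq_fintype_card] at h6
    rw [← hs]
    refine h4.trans (Nat.mul_le_mul_left 2 (h6.trans (Nat.mul_le_mul ?_ ?_))) <;> omega
  have hp3 : 3 ≤ p := by
    have := hpp.two_le
    omega
  have h4 : k₁ ^ 3 ≤ Nat.card F := by
    rw [← hq₁]
    exact Nat.pow_le_pow_right hk₁ hp3
  have hk2 : 2 ≤ k₁ := by
    by_contra hlt
    have h5 : k₁ = 1 := by omega
    rw [h5, one_pow] at hq₁
    have h6 : 1 < Nat.card F := Finite.one_lt_card
    omega
  obtain ⟨j, rfl⟩ : ∃ j, k₁ = j + 1 := ⟨k₁ - 1, by omega⟩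
  have h5 : j + 1 - 1 = j := by omega
  rw [h5] at h3
  have h6 : (j + 1) ^ 3 ≤ 2 * (j * j) + 1 := by omega
  nlinarith [h6, mul_self_nonneg j]

/-- **The weak rank one row**, own characteristic. -/
theorem w2_line [Finite F] {p : ℕ} [Fact p.Prime] [CharP F p] (hp2 : p ≠ 2) {f₁ f₂ : Equiv.Perm (Option F)}
    (h₁ : f₁ ∈ famStab (lineFam F)) (h₂ : f₂ ∈ famStab (lineFam F)) (o₁ : f₁ ^ p = 1) (o₂ : f₂ ^ p = 1)
    (n₁ : f₁ ≠ 1) (n₂ : f₂ ≠ 1) : WPair p (⨆ y, lineFam F y) f₁ f₂ := by
  have hpp : p.Prime := Fact.out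
  rw [iSup_lineFam]
  by_contra hcon
  have : Fintype F := Fintype.ofFinite F
  have hpcard : p ∣ Fintype.card F := by
    obtain ⟨n, hpn, hn⟩ := FiniteField.card F p
    rw [hn]
    exact dvd_pow_self p n.pos.ne'
  -- common fixed points
  have key : ∀ m ∈ psl2 F, ∃ y, f₁ (m y) = m y ∧ f₂ y = y := by
    intro m hm
    have hK : IsPGroup p ↥(Subgroup.closure ({f₁, m * f₂ * m⁻¹} : Set (Equiv.Perm (Option F)))) := by
      by_contra hK
      exact hcon ⟨m, hm, hK⟩
    have h3 := card_fix hK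
    have h4 : ({x : Option F | ∀ k ∈ Subgroup.closure
        ({f₁, m * f₂ * m⁻¹} : Set (Equiv.Perm (Option F))), k x = x} : Set (Option F)).Nonempty := by
      rw [Set.nonempty_iff_ne_empty]
      intro h5
      rw [h5, Nat.card_coe_set_eq, Set.ncard_empty, Finite.card_option, Nat.card_eq_fintype_card] at h3
      have h6 := (Nat.modEq_zero_iff_dvd).1 h3
      exact hpp.one_lt.ne' (Nat.dvd_one.1 ((Nat.dvd_add_right hpcard).1 h6))
    obtain ⟨z, hz⟩ := h4
    obtain ⟨h5, h6⟩ := fix_of_closure.1 hz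
    refine ⟨m⁻¹ z, ?_, ?_⟩
    · have : m (m⁻¹ z) = z := m.apply_symm_apply z
      rw [this, h5]
    · rw [Equiv.Perm.mul_apply, Equiv.Perm.mul_apply] at h6
      have h7 := congrArg (m⁻¹ : Equiv.Perm (Option F)) h6
      have : m⁻¹ (m (f₂ (m⁻¹ z))) = f₂ (m⁻¹ z) := m.symm_apply_apply _
      rw [this] at h7
      exact h7
  have trans : ∀ y z : Option F, ∃ m ∈ psl2 F, m y = z := by
    intro y z
    refine ⟨toPt z * (toPt y)⁻¹, mul_mem (toPt_mem z) (inv_mem (toPt_mem y)), ?_⟩
    rw [Equiv.Perm.mul_apply]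
    have h3 : (toPt y)⁻¹ y = none := by
      rw [Equiv.Perm.inv_eq_iff_eq, toPt_apply]
    rw [h3, toPt_apply]
  -- two fixed points of `f₁`, `f₂`
  have two : ∀ f : Equiv.Perm (Option F), f ≠ 1 → (∃ y, f y = y) →
      (∀ y, f y = y → ∀ z, f z = z → y = z) ∨ ∃ y z, y ≠ z ∧ f y = y ∧ f z = z := by
    intro f _ _
    by_cases h3 : ∃ y z, y ≠ z ∧ f y = y ∧ f z = z
    · exact Or.inr h3
    · left
      intro y hy z hz
      by_contra hyz
      exact h3 ⟨y, z, hyz, hy, hz⟩
  have e₁ : ∃ y, f₁ y = y := by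
    obtain ⟨y, hy, -⟩ := key 1 (one_mem _)
    exact ⟨_, hy⟩
  have e₂ : ∃ y, f₂ y = y := by
    obtain ⟨y, -, hy⟩ := key 1 (one_mem _)
    exact ⟨_, hy⟩
  rcases two f₁ n₁ e₁ with u₁ | ⟨y₀, y₁, hy, hy₀, hy₁⟩
  · -- `f₁` has one fixed point
    obtain ⟨c, hc⟩ := e₁
    apply n₂
    apply Equiv.ext
    intro z
    obtain ⟨m, hm, hmz⟩ := trans z c
    obtain ⟨y, h3, h4⟩ := key m hm
    have h5 : m y = m z := by rw [hmz]; exact u₁ _ h3 _ hc
    rw [← m.injective h5]
    exact h4
  rcases two f₂ n₂ e₂ with u₂ | ⟨z₀, z₁, hz, hz₀, hz₁⟩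
  · obtain ⟨c, hc⟩ := e₂
    apply n₁
    apply Equiv.ext
    intro z
    obtain ⟨m, hm, hmz⟩ := trans c z
    obtain ⟨y, h3, h4⟩ := key m hm
    have h5 : y = c := u₂ _ h4 _ hc
    rw [h5, hmz] at h3
    exact h3
  obtain ⟨k₁, hk₁, ha₁, hb₁⟩ := exists_psl2 hy
  obtain ⟨k₂, hk₂, ha₂, hb₂⟩ := exists_psl2 hz
  have conj_fix : ∀ (k f : Equiv.Perm (Option F)) (x y : Option F), k x = y → f y = y →
      (k⁻¹ * f * k) x = x := by
    intro k f x y hxy hfy
    rw [Equiv.Perm.mul_apply, Equiv.Perm.mul_apply, hxy, hfy, ← hxy]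
    exact k.symm_apply_apply x
  have hfam : ∀ {k f : Equiv.Perm (Option F)}, k ∈ psl2 F → f ∈ famStab (lineFam F) →
      k⁻¹ * f * k ∈ famStab (lineFam F) := fun {k f} hk hf =>
    mul_mem (mul_mem (inv_mem (psl2_le_famStab hk)) hf) (psl2_le_famStab hk)
  have hpow : ∀ {k f : Equiv.Perm (Option F)}, f ^ p = 1 → (k⁻¹ * f * k) ^ p = 1 := by
    intro k f hf
    have : (k⁻¹ * f * k) ^ p = k⁻¹ * f ^ p * k := by
      have := conj_pow (i := p) (a := k⁻¹) (b := f)
      rwa [inv_inv] at this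
    rw [this, hf, mul_one, inv_mul_cancel]
  have hne : ∀ {k f : Equiv.Perm (Option F)}, f ≠ 1 → k⁻¹ * f * k ≠ 1 := by
    intro k f hf h
    apply hf
    calc f = k * (k⁻¹ * f * k) * k⁻¹ := by group
      _ = 1 := by rw [h]; group
  have h3 := wpair_two hp2 (hfam hk₁ h₁) (hfam hk₂ h₂) (hpow o₁) (hpow o₂) (hne n₁) (hne n₂)
    (conj_fix k₁ f₁ _ _ ha₁ hy₀) (conj_fix k₁ f₁ _ _ hb₁ hy₁) (conj_fix k₂ f₂ _ _ ha₂ hz₀)
    (conj_fix k₂ f₂ _ _ hb₂ hz₁)
  apply hcon
  refine WPair.conj_left (s := k₁⁻¹) (inv_mem hk₁) (WPair.conj_right (s := k₂⁻¹) (inv_mem hk₂) ?_)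
  rw [inv_inv, inv_inv]
  exact h3

end field

end Cfsg.Agent.H388.Wf.Line
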